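import Cfsg.Agent.Lib.H40.TCF24G.Chk
set_option Elab.async false
set_option autoImplicit false
set_option maxRecDepth 100000
set_option linter.all false
namespace H40.TCF24G
open H35.TC
theorem r_220 : allB chkP 10 225280 = true := by decide +kernel
theorem r_221 : allB chkP 10 226304 = true := by decide +kernel
theorem r_222 : allB chkP 10 227328 = true := by decide +kernel
theorem r_223 : allB chkP 10 228352 = true := by decide +kernel
theorem r_224 : allB chkP 10 229376 = true := by decide +kernel
theorem r_225 : allB chkP 10 230400 = true := by decide +kernel
theorem r_226 : allB chkP 10 231424 = true := by decide +kernel
theorem r_227 : allB chkP 10 232448 = true := by decide +kernel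
theorem r_228 : allB chkP 10 233472 = true := by decide +kernel
theorem r_229 : allB chkP 10 234496 = true := by decide +kernel
theorem r_230 : allB chkP 10 235520 = true := by decide +kernel
theorem r_231 : allB chkP 10 236544 = true := by decide +kernel
theorem r_232 : allB chkP 10 237568 = true := by decide +kernel
theorem r_233 : allB chkP 10 238592 = true := by decide +kernel
theorem r_234 : allB chkP 10 239616 = true := by decide +kernel
theorem r_235 : allB chkP 10 240640 = true := by decide +kernel
theorem r_236 : allB chkP 10 241664 = true := by decide +kernel
theorem r_237 : allB chkP 10 242688 = true := by decide +kernel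
theorem r_238 : allB chkP 10 243712 = true := by decide +kernel
theorem r_239 : allB chkP 10 244736 = true := by decide +kernel
end H40.TCF24G
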