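import Cfsg.Agent.Lib.H40.TCF24G.Chk
set_option Elab.async false
set_option autoImplicit false
set_option maxRecDepth 100000
set_option linter.all false
namespace H40.TCF24G
open H35.TC
theorem r_60 : allB chkP 10 61440 = true := by decide +kernel
theorem r_61 : allB chkP 10 62464 = true := by decide +kernel
theorem r_62 : allB chkP 10 63488 = true := by decide +kernel
theorem r_63 : allB chkP 10 64512 = true := by decide +kernel
theorem r_64 : allB chkP 10 65536 = true := by decide +kernel
theorem r_65 : allB chkP 10 66560 = true := by decide +kernel
theorem r_66 : allB chkP 10 67584 = true := by decide +kernel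
theorem r_67 : allB chkP 10 68608 = true := by decide +kernel
theorem r_68 : allB chkP 10 69632 = true := by decide +kernel
theorem r_69 : allB chkP 10 70656 = true := by decide +kernel
theorem r_70 : allB chkP 10 71680 = true := by decide +kernel
theorem r_71 : allB chkP 10 72704 = true := by decide +kernel
theorem r_72 : allB chkP 10 73728 = true := by decide +kernel
theorem r_73 : allB chkP 10 74752 = true := by decide +kernel
theorem r_74 : allB chkP 10 75776 = true := by decide +kernel
theorem r_75 : allB chkP 10 76800 = true := by decide +kernel
theorem r_76 : allB chkP 10 77824 = true := by decide +kernel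
theorem r_77 : allB chkP 10 78848 = true := by decide +kernel
theorem r_78 : allB chkP 10 79872 = true := by decide +kernel
theorem r_79 : allB chkP 10 80896 = true := by decide +kernel
end H40.TCF24G
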