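import Cfsg.Agent.Lib.H40.TCF24G.Chk
set_option Elab.async false
set_option autoImplicit false
set_option maxRecDepth 100000
set_option linter.all false
namespace H40.TCF24G
open H35.TC
theorem r_100 : allB chkP 10 102400 = true := by decide +kernel
theorem r_101 : allB chkP 10 103424 = true := by decide +kernel
theorem r_102 : allB chkP 10 104448 = true := by decide +kernel
theorem r_103 : allB chkP 10 105472 = true := by decide +kernel
theorem r_104 : allB chkP 10 106496 = true := by decide +kernel
theorem r_105 : allB chkP 10 107520 = true := by decide +kernel
theorem r_106 : allB chkP 10 108544 = true := by decide +kernel
theorem r_107 : allB chkP 10 109568 = true := by decide +kernel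
theorem r_108 : allB chkP 10 110592 = true := by decide +kernel
theorem r_109 : allB chkP 10 111616 = true := by decide +kernel
theorem r_110 : allB chkP 10 112640 = true := by decide +kernel
theorem r_111 : allB chkP 10 113664 = true := by decide +kernel
theorem r_112 : allB chkP 10 114688 = true := by decide +kernel
theorem r_113 : allB chkP 10 115712 = true := by decide +kernel
theorem r_114 : allB chkP 10 116736 = true := by decide +kernel
theorem r_115 : allB chkP 10 117760 = true := by decide +kernel
theorem r_116 : allB chkP 10 118784 = true := by decide +kernel
theorem r_117 : allB chkP 10 119808 = true := by decide +kernel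
theorem r_118 : allB chkP 10 120832 = true := by decide +kernel
theorem r_119 : allB chkP 10 121856 = true := by decide +kernel
end H40.TCF24G
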