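import Cfsg.Agent.Lib.H40.TCF24G.Chk
set_option Elab.async false
set_option autoImplicit false
set_option maxRecDepth 100000
set_option linter.all false
namespace H40.TCF24G
open H35.TC
theorem r_140 : allB chkP 10 143360 = true := by decide +kernel
theorem r_141 : allB chkP 10 144384 = true := by decide +kernel
theorem r_142 : allB chkP 10 145408 = true := by decide +kernel
theorem r_143 : allB chkP 10 146432 = true := by decide +kernel
theorem r_144 : allB chkP 10 147456 = true := by decide +kernel
theorem r_145 : allB chkP 10 148480 = true := by decide +kernel
theorem r_146 : allB chkP 10 149504 = true := by decide +kernel
theorem r_147 : allB chkP 10 150528 = true := by decide +kernel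
theorem r_148 : allB chkP 10 151552 = true := by decide +kernel
theorem r_149 : allB chkP 10 152576 = true := by decide +kernel
theorem r_150 : allB chkP 10 153600 = true := by decide +kernel
theorem r_151 : allB chkP 10 154624 = true := by decide +kernel
theorem r_152 : allB chkP 10 155648 = true := by decide +kernel
theorem r_153 : allB chkP 10 156672 = true := by decide +kernel
theorem r_154 : allB chkP 10 157696 = true := by decide +kernel
theorem r_155 : allB chkP 10 158720 = true := by decide +kernel
theorem r_156 : allB chkP 10 159744 = true := by decide +kernel
theorem r_157 : allB chkP 10 160768 = true := by decide +kernel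
theorem r_158 : allB chkP 10 161792 = true := by decide +kernel
theorem r_159 : allB chkP 10 162816 = true := by decide +kernel
end H40.TCF24G
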